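import Groth.Agent.Lib.EtaleSection.Alg
import Mathlib.AlgebraicGeometry.Morphisms.Smooth
import Mathlib.AlgebraicGeometry.Morphisms.Etale
import Mathlib.AlgebraicGeometry.Morphisms.UnderlyingMap
import Mathlib.AlgebraicGeometry.PullbackCarrier
import Mathlib.AlgebraicGeometry.Limits
import Mathlib.AlgebraicGeometry.Morphisms.Basic
import Mathlib.RingTheory.RingHom.StandardSmooth
import Mathlib.RingTheory.Spectrum.Prime.Chevalley

/-!
# Smooth morphisms have sections étale locally on the target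

* `exists_etale_section`: through every point of the image of a smooth morphism.
* `exists_etale_surjective_section`: a smooth surjective morphism has a section over a surjective
  étale morphism.
-/

set_option autoImplicit false

universe u

open CategoryTheory CategoryTheory.Limits AlgebraicGeometry

namespace Groth.Agent.Lib.EtaleSection.Sections

/-- A smooth morphism has a section over an étale neighbourhood of each point of its image. -/
theorem exists_etale_section {X S : Scheme.{u}} (f : X ⟶ S) [Smooth f] (x : X) :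
    ∃ (S' : Scheme.{u}) (g : S' ⟶ S) (s' : S'), Etale g ∧ g s' = f x ∧ ∃ h : S' ⟶ X, h ≫ f = g := by
  obtain ⟨U, hU, V, hV, hxV, e, hstd⟩ := Smooth.exists_isStandardSmooth f x
  obtain ⟨n, φ, hφC, hφ⟩ := hstd.exists_etale_mvPolynomial
  let _ : Algebra (MvPolynomial (Fin n) Γ(S, U)) Γ(X, V) := φ.toAlgebra
  have : Algebra.Etale (MvPolynomial (Fin n) Γ(S, U)) Γ(X, V) := hφ
  let cf : CommRingCat.of (MvPolynomial (Fin n) Γ(S, U)) ⟶ Γ(X, V) := CommRingCat.ofHom φ
  let cC : Γ(S, U) ⟶ CommRingCat.of (MvPolynomial (Fin n) Γ(S, U)) :=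
    CommRingCat.ofHom MvPolynomial.C
  have hcomp : cC ≫ cf = f.appLE U V e := CommRingCat.hom_ext hφC
  have : Etale (Spec.map cf) := (HasRingHomProperty.Spec_iff (P := @Etale)).2 hφ
  let x₀ : Spec Γ(X, V) := hV.primeIdealOf ⟨x, hxV⟩
  have hx₀ : hV.fromSpec x₀ = x := hV.fromSpec_primeIdealOf ⟨x, hxV⟩
  have hopen : IsOpenMap (PrimeSpectrum.comap φ) :=
    PrimeSpectrum.isOpenMap_comap_of_hasGoingDown_of_finitePresentation
      (R := MvPolynomial (Fin n) Γ(S, U)) (S := Γ(X, V))
  obtain ⟨_, ⟨h, rfl⟩, hmem, hsub⟩ :=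
    PrimeSpectrum.isTopologicalBasis_basic_opens.exists_subset_of_mem_open
      (Set.mem_range_self (f := PrimeSpectrum.comap φ) x₀) hopen.isOpen_range
  let p : PrimeSpectrum Γ(S, U) := PrimeSpectrum.comap MvPolynomial.C (PrimeSpectrum.comap φ x₀)
  have hh : ∃ m, h.coeff m ∉ p.asIdeal := by
    by_contra hc
    push Not at hc
    exact hmem (Ideal.map_comap_le (MvPolynomial.mem_map_C_iff.2 hc))
  obtain ⟨P, q, b, hq, hqp, hb⟩ := Alg.exists_etale_eval_ne_zero p.asIdeal h hh
  let cb : CommRingCat.of (MvPolynomial (Fin n) Γ(S, U)) ⟶ CommRingCat.of P.Ring :=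
    CommRingCat.ofHom (MvPolynomial.aeval b).toRingHom
  let q₀ : Spec (CommRingCat.of P.Ring) := ⟨q, hq⟩
  obtain ⟨y, hy⟩ := hsub (show PrimeSpectrum.comap (MvPolynomial.aeval b).toRingHom ⟨q, hq⟩ ∈
    (PrimeSpectrum.basicOpen h : Set (PrimeSpectrum (MvPolynomial (Fin n) Γ(S, U)))) from hb)
  obtain ⟨z, hz, -⟩ := Scheme.Pullback.exists_preimage_pullback (f := Spec.map cb) (g := Spec.map cf)
    q₀ y hy.symm
  let a : CommRingCat.of Γ(S, U) ⟶ CommRingCat.of P.Ring :=
    CommRingCat.ofHom (algebraMap Γ(S, U) P.Ring)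
  have ha : cC ≫ cb = a := CommRingCat.hom_ext (RingHom.ext fun c => MvPolynomial.aeval_C b c)
  have : Etale (Spec.map a) :=
    (HasRingHomProperty.Spec_iff (P := @Etale)).2 (RingHom.etale_algebraMap.2 inferInstance)
  refine ⟨pullback (Spec.map cb) (Spec.map cf), pullback.fst _ _ ≫ Spec.map a ≫ hU.fromSpec, z,
    inferInstance, ?_, pullback.snd _ _ ≫ hV.fromSpec, ?_⟩
  · have hpq : Spec.map a q₀ = Spec.map (f.appLE U V e) x₀ := by
      rw [← hcomp]
      refine PrimeSpectrum.ext (hqp.trans ?_)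
      rfl
    have h2 := congrArg (fun g : Spec Γ(X, V) ⟶ S => g x₀)
      (IsAffineOpen.SpecMap_appLE_fromSpec f hU hV e)
    simp only [Scheme.Hom.comp_apply, hx₀] at h2
    rw [Scheme.Hom.comp_apply, hz, Scheme.Hom.comp_apply, hpq, h2]
  · rw [Category.assoc, ← IsAffineOpen.SpecMap_appLE_fromSpec f hU hV e, ← hcomp, Spec.map_comp,
      Category.assoc, ← pullback.condition_assoc, ← ha, Spec.map_comp, Category.assoc]

/-- A smooth surjective morphism has a section over a surjective étale morphism. -/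
theorem exists_etale_surjective_section {X S : Scheme.{u}} (f : X ⟶ S) [Smooth f] [Surjective f] :
    ∃ (S' : Scheme.{u}) (g : S' ⟶ S) (h : S' ⟶ X), Etale g ∧ Surjective g ∧ h ≫ f = g := by
  choose x hx using f.surjective
  choose S' g s' hg hs h hh using fun s => exists_etale_section f (x s)
  refine ⟨∐ S', Sigma.desc g, Sigma.desc h, ?_, ⟨fun s => ?_⟩, Sigma.hom_ext _ _ fun s => ?_⟩
  · have : IsZariskiLocalAtSource @Etale.{u} :=
      HasRingHomProperty.instIsZariskiLocalAtSource (P := @Etale) (Q := RingHom.Etale)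
    exact IsZariskiLocalAtSource.sigmaDesc hg
  · refine ⟨Sigma.ι S' s (s' s), ?_⟩
    rw [← Scheme.Hom.comp_apply, Sigma.ι_desc, hs, hx]
  · rw [Sigma.ι_desc_assoc, hh, Sigma.ι_desc]

end Groth.Agent.Lib.EtaleSection.Sections
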