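import Mathlib.RingTheory.Etale.StandardEtale
import Mathlib.FieldTheory.PrimitiveElement
import Mathlib.FieldTheory.IsSepClosed
import Mathlib.FieldTheory.SeparableClosure
import Mathlib.FieldTheory.Perfect
import Mathlib.Algebra.MvPolynomial.Funext
import Mathlib.RingTheory.LocalRing.ResidueField.Ideal
import Mathlib.RingTheory.Polynomial.ScaleRoots

/-!
# Points of open subsets of affine space over étale neighbourhoods

* `exists_etale_eval_ne_zero`: a polynomial which is non-zero on the fibre over a prime `p` is
  non-zero at some point with coordinates in a standard étale algebra with a prime over `p`.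
-/

set_option autoImplicit false

universe u

open Polynomial

namespace Groth.Agent.Lib.EtaleSection.Alg

variable {A : Type u} [CommRing A] (p : Ideal A) [p.IsPrime]

theorem infinite_of_isSepClosed (k : Type u) [Field k] [IsSepClosed k] : Infinite k := by
  rcases finite_or_infinite k with hk | hk
  · have : PerfectField k := inferInstance
    have : IsAlgClosed k := inferInstance
    exact inferInstance
  · exact hk

/-- The coefficients of a polynomial over the residue field have a common denominator. -/
theorem exists_denom (g : p.ResidueField[X]) : ∃ s : A, s ∉ p ∧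
    ∀ i, algebraMap A p.ResidueField s * g.coeff i ∈ (algebraMap A p.ResidueField).range := by
  classical
  obtain ⟨⟨b, hb⟩, h⟩ := IsLocalization.exist_integer_multiples_of_finset (nonZeroDivisors (A ⧸ p))
    (g.support.image g.coeff)
  obtain ⟨s, rfl⟩ := Ideal.Quotient.mk_surjective b
  have hs : s ∉ p := fun h' => nonZeroDivisors.ne_zero hb (Ideal.Quotient.eq_zero_iff_mem.2 h')
  refine ⟨s, hs, fun i => ?_⟩
  by_cases hi : i ∈ g.support
  · obtain ⟨x, hx⟩ := h (g.coeff i) (Finset.mem_image_of_mem _ hi)
    obtain ⟨r, rfl⟩ := Ideal.Quotient.mk_surjective x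
    refine ⟨r, ?_⟩
    rw [IsScalarTower.algebraMap_apply A (A ⧸ p) p.ResidueField]
    rw [Ideal.Quotient.algebraMap_eq, hx, Algebra.smul_def,
      IsScalarTower.algebraMap_apply A (A ⧸ p) p.ResidueField s]
    rfl
  · rw [notMem_support_iff.1 hi, mul_zero]
    exact zero_mem _

/-- A polynomial which is non-zero on the fibre over `p` has a non-vanishing point in a standard
étale algebra with a prime over `p`. -/
theorem exists_etale_eval_ne_zero {n : ℕ} (h : MvPolynomial (Fin n) A) (hh : ∃ m, h.coeff m ∉ p) :
    ∃ (P : StandardEtalePair A) (q : Ideal P.Ring) (b : Fin n → P.Ring),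
      q.IsPrime ∧ q.comap (algebraMap A P.Ring) = p ∧ MvPolynomial.aeval b h ∉ q := by
  classical
  let κ := p.ResidueField
  let K := SeparableClosure κ
  have := infinite_of_isSepClosed K
  have hker : ∀ a : A, algebraMap A K a = 0 ↔ a ∈ p := fun a => by
    rw [IsScalarTower.algebraMap_apply A κ K, map_eq_zero, Ideal.algebraMap_residueField_eq_zero]
  obtain ⟨a, ha⟩ : ∃ a : Fin n → K, MvPolynomial.aeval a h ≠ 0 := by
    by_contra hc
    push Not at hc
    obtain ⟨m, hm⟩ := hh
    have h0 : MvPolynomial.map (algebraMap A K) h = 0 := MvPolynomial.funext fun a => by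
      rw [MvPolynomial.eval_map, map_zero]
      exact hc a
    have := congrArg (MvPolynomial.coeff m) h0
    rw [MvPolynomial.coeff_map, MvPolynomial.coeff_zero, hker] at this
    exact hm this
  let L := IntermediateField.adjoin κ (Set.range a)
  have : FiniteDimensional κ L :=
    IntermediateField.finiteDimensional_adjoin fun x _ => Algebra.IsIntegral.isIntegral x
  have : Algebra.IsSeparable κ L := Algebra.isSeparable_tower_bot_of_isSeparable κ L K
  obtain ⟨θ, hθ⟩ := Field.exists_primitive_element κ L
  have hQ : ∀ i, ∃ Q : κ[X], aeval (θ : K) Q = a i := fun i => by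
    have hmem : (⟨a i, IntermediateField.subset_adjoin κ _ (Set.mem_range_self i)⟩ : L) ∈
        IntermediateField.adjoin κ {θ} := hθ ▸ IntermediateField.mem_top
    rw [← IntermediateField.mem_toSubalgebra, IntermediateField.adjoin_simple_toSubalgebra_of_isAlgebraic
      (Algebra.IsAlgebraic.isAlgebraic θ), Algebra.adjoin_singleton_eq_range_aeval] at hmem
    obtain ⟨Q, hQ⟩ := hmem
    refine ⟨Q, ?_⟩
    have := congrArg (fun x : L => (x : K)) hQ
    simpa [← aeval_algebraMap_apply] using this
  choose Q hQ using hQ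
  let g := minpoly κ (θ : K)
  have hgsep : g.Separable := Algebra.IsSeparable.isSeparable κ (θ : K)
  have hg0 : g.Monic := minpoly.monic (Algebra.IsIntegral.isIntegral _)
  obtain ⟨s, hs, hsg⟩ := exists_denom p g
  let σ : κ := algebraMap A κ s
  have hσ : σ ≠ 0 := fun h' => hs (Ideal.algebraMap_residueField_eq_zero.1 h')
  let θ' : K := algebraMap κ K σ * θ
  let g' := g.scaleRoots σ
  have hlifts : g' ∈ lifts (algebraMap A κ) := by
    rw [lifts_iff_coeff_lifts]
    intro i
    rw [coeff_scaleRoots]
    rcases lt_trichotomy i g.natDegree with hi | rfl | hi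
    · obtain ⟨r, hr⟩ := hsg i
      refine ⟨r * s ^ (g.natDegree - i - 1), ?_⟩
      rw [map_mul, map_pow, hr, mul_comm σ, mul_assoc, ← pow_succ',
        show g.natDegree - i - 1 + 1 = g.natDegree - i by omega]
    · exact ⟨1, by simp [hg0.coeff_natDegree]⟩
    · exact ⟨0, by simp [coeff_eq_zero_of_natDegree_lt hi]⟩
  obtain ⟨f, hf, -, hfm⟩ := lifts_and_degree_eq_and_monic hlifts ((monic_scaleRoots_iff σ).2 hg0)
  have haevalmap : ∀ (F : A[X]) (x : K), aeval x F = aeval x (F.map (algebraMap A κ)) :=
    fun F x => (aeval_map_algebraMap κ x F).symm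
  have hfθ : aeval θ' f = 0 := by
    rw [haevalmap, hf]
    exact scaleRoots_aeval_eq_zero (minpoly.aeval κ _)
  have hf'θ : aeval θ' (derivative f) ≠ 0 := by
    intro h0
    rw [haevalmap, ← derivative_map, hf] at h0
    have e : g'.comp (C σ * X) = C σ ^ g.natDegree * g :=
      (scaleRoots_eval₂_mul (p := g) C (X : κ[X]) σ).trans (by rw [eval₂_C_X])
    have e' := congrArg (fun q => aeval (θ : K) (derivative q)) e
    simp only [derivative_comp, derivative_mul, derivative_C, zero_mul, zero_add, derivative_X,
      mul_one, ← C_pow, map_mul, aeval_C, aeval_comp, aeval_X] at e'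
    rw [h0, mul_zero] at e'
    refine mul_ne_zero ?_ (hgsep.aeval_derivative_ne_zero (minpoly.aeval κ _)) e'.symm
    rw [map_pow]
    exact pow_ne_zero _ (by simpa using hσ)
  let Qs : Fin n → κ[X] := fun i => (Q i).comp (C σ⁻¹ * X)
  have hQs : ∀ i, aeval θ' (Qs i) = a i := fun i => by
    rw [aeval_comp, map_mul, aeval_C, aeval_X, ← mul_assoc, ← map_mul, inv_mul_cancel₀ hσ, map_one,
      one_mul, hQ]
  choose t ht htQ using fun i => exists_denom p (Qs i)
  have hR : ∀ i, ∃ R : A[X], R.map (algebraMap A κ) = C (algebraMap A κ (t i)) * Qs i := fun i => by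
    rw [← mem_lifts, lifts_iff_coeff_lifts]
    intro j
    rw [coeff_C_mul]
    exact htQ i j
  choose R hR using hR
  let P : StandardEtalePair A :=
    ⟨f, hfm, derivative f * C (∏ i, t i), C (∏ i, t i), 0, 1, by rw [mul_zero, add_zero, pow_one]⟩
  have hmap : P.HasMap θ' := by
    refine ⟨hfθ, isUnit_iff_ne_zero.2 ?_⟩
    change aeval θ' (derivative f * C (∏ i, t i)) ≠ 0
    rw [map_mul, aeval_C]
    refine mul_ne_zero hf'θ fun h0 => ?_
    obtain ⟨i, -, hi⟩ := Ideal.IsPrime.prod_mem_iff.1 ((hker _).1 h0)
    exact ht i hi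
  let φ := P.lift θ' hmap
  have hu : ∀ i, IsUnit (algebraMap A P.Ring (t i)) := fun i => by
    have h1 : IsUnit (aeval P.X (derivative f * C (∏ i, t i))) := P.hasMap_X.2
    rw [map_mul, aeval_C] at h1
    exact isUnit_of_dvd_unit (map_dvd _ (Finset.dvd_prod_of_mem t (Finset.mem_univ i)))
      (isUnit_of_mul_isUnit_right h1)
  let b : Fin n → P.Ring := fun i => aeval P.X (R i) * ↑(hu i).unit⁻¹
  have hb : ∀ i, φ (b i) = a i := fun i => by
    have h1 : b i * algebraMap A P.Ring (t i) = aeval P.X (R i) := by
      rw [mul_assoc, (hu i).val_inv_mul, mul_one]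
    generalize b i = bi at h1 ⊢
    have h2 := congrArg φ h1
    rw [map_mul, AlgHom.commutes, ← aeval_algHom_apply, StandardEtalePair.lift_X, haevalmap,
      hR i, map_mul, aeval_C, hQs, ← IsScalarTower.algebraMap_apply, mul_comm] at h2
    exact mul_left_cancel₀ (fun h0 => ht i ((hker _).1 h0)) h2
  refine ⟨P, RingHom.ker φ.toRingHom, b, RingHom.ker_isPrime _, ?_, fun hm => ha ?_⟩
  · ext x
    rw [Ideal.mem_comap, RingHom.mem_ker]
    change φ (algebraMap A P.Ring x) = 0 ↔ _
    rw [AlgHom.commutes, hker]
  · rw [RingHom.mem_ker] at hm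
    change φ (MvPolynomial.aeval b h) = 0 at hm
    rw [← AlgHom.comp_apply, MvPolynomial.comp_aeval] at hm
    rw [← hm, show (fun i => φ (b i)) = a from funext hb]

end Groth.Agent.Lib.EtaleSection.Alg
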